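import Mathlib
import Cfsg.Agent.S4864
import Cfsg.Agent.Lib.Core.PSolvable
import Cfsg.Agent.Lib.Core.Basic

/-!
# Sylow subgroups for two primes

`P` Sylow for `p`, `Q` Sylow for `q`, with `N_G(P) ≤ N_G(Q)`: `Q` is the unique Sylow `q`-subgroup
normalized by `P`, and `Q` lies in every subgroup containing `P` of index prime to `q`, when `G`
is `p`-solvable and `q`-solvable.
-/

set_option autoImplicit false
set_option linter.unusedSectionVars false
set_option linter.style.haveILetI false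

namespace Cfsg.Agent.Lib.TwoPrimes.Basic

open Cfsg Cfsg.Agent.Lib.Core.PSolvable Cfsg.Agent.Lib.Core.Basic MulAction
open Cfsg.Agent.S4864 (Nz Fx orbMap orbMap_injective)

universe u

section Aux

variable {G : Type u} [Group G] [Finite G] {p q : ℕ} [hp : Fact p.Prime] [hq : Fact q.Prime]

/-- Two `P`-fixed points in the same orbit are conjugate under the normalizer of the Sylow subgroup. -/
theorem exists_nz_of_fixed (P : Sylow p G) {Y : Type*} [MulAction G Y] {y₁ y₂ : Y}
    (h₁ : ∀ u ∈ (P : Subgroup G), u • y₁ = y₁) (h₂ : ∀ u ∈ (P : Subgroup G), u • y₂ = y₂) {g : G}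
    (hg : g • y₁ = y₂) : ∃ n : Nz (P : Subgroup G), (n : G) • y₁ = y₂ := by
  have hinj := orbMap_injective (X := Y) P
  have h : orbMap (P : Subgroup G) Y (Quotient.mk _ ⟨y₂, h₂⟩) =
      orbMap (P : Subgroup G) Y (Quotient.mk _ ⟨y₁, h₁⟩) := by
    apply Quotient.sound
    exact ⟨g, hg⟩
  have h3 := hinj h
  obtain ⟨n, hn⟩ : (⟨y₂, h₂⟩ : Fx (P : Subgroup G) Y) ∈
      MulAction.orbit (Nz (P : Subgroup G)) (⟨y₁, h₁⟩ : Fx (P : Subgroup G) Y) :=
    Quotient.exact h3
  exact ⟨n, congrArg Subtype.val hn⟩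

/-- Uniqueness of the Sylow `q`-subgroup normalized by `P`. -/
theorem sylow_unique (P : Sylow p G) {Q Q' : Sylow q G}
    (hN : Nz (P : Subgroup G) ≤ Nz (Q : Subgroup G))
    (hQ' : (P : Subgroup G) ≤ Nz (Q' : Subgroup G)) : Q' = Q := by
  have hPQ : (P : Subgroup G) ≤ Nz (Q : Subgroup G) := Subgroup.le_normalizer.trans hN
  obtain ⟨g, hg⟩ := MulAction.exists_smul_eq G Q Q'
  obtain ⟨n, hn⟩ := exists_nz_of_fixed P (Y := Sylow q G) (y₁ := Q) (y₂ := Q')
    (fun u hu => Sylow.smul_eq_iff_mem_normalizer.mpr (hPQ hu))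
    (fun u hu => Sylow.smul_eq_iff_mem_normalizer.mpr (hQ' hu)) hg
  rw [← hn]
  exact Sylow.smul_eq_iff_mem_normalizer.mpr (hN n.2)

/-- Conjugation by an element of a normalizer preserves the subgroup. -/
theorem smul_le_of_mem_nz {J : Subgroup G} {g : G} (hg : g ∈ Nz J) {S : Sylow q G}
    (hS : (S : Subgroup G) ≤ J) : ((g • S : Sylow q G) : Subgroup G) ≤ J := by
  intro x hx
  rw [Sylow.coe_subgroup_smul, Subgroup.mem_pointwise_smul_iff_inv_smul_mem] at hx
  have h1 : g⁻¹ * x * g ∈ J := hS (by simpa using hx)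
  have h2 := (Subgroup.mem_normalizer_iff.mp hg (g⁻¹ * x * g)).mp h1
  have e : g * (g⁻¹ * x * g) * g⁻¹ = x := by group
  rwa [e] at h2

/-- Conjugacy of Sylow subgroups of `G` contained in a subgroup, by elements of that subgroup. -/
theorem exists_mem_smul_eq {J : Subgroup G} {S₁ S₂ : Sylow q G} (h₁ : (S₁ : Subgroup G) ≤ J)
    (h₂ : (S₂ : Subgroup G) ≤ J) : ∃ s ∈ J, s • S₁ = S₂ := by
  obtain ⟨s, hs⟩ := exists_smul_eq J (S₁.subtype h₁) (S₂.subtype h₂)
  simp_rw [Sylow.smul_subtype, Subgroup.smul_def] at hs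
  exact ⟨s, s.2, Sylow.subtype_injective hs⟩

/-- A `p`-group normalizing `J` with `p ∤ |J|`, and `J` contains a Sylow `q`-subgroup of `G`: there is
one normalized by `P`. -/
theorem exists_fixed_sylow {P : Subgroup G} (hP : IsPGroup p P) (J : Subgroup G)
    (hPJ : P ≤ Nz J) (hJ : ¬ p ∣ Nat.card J) (S : Sylow q G) (hS : (S : Subgroup G) ≤ J) :
    ∃ S' : Sylow q G, (S' : Subgroup G) ≤ J ∧ P ≤ Nz (S' : Subgroup G) := by
  let Ω := {S' : Sylow q G // (S' : Subgroup G) ≤ J}
  letI actP : MulAction P Ω :=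
    { smul := fun u x => ⟨(u : G) • x.1, smul_le_of_mem_nz (hPJ u.2) x.2⟩
      one_smul := fun x => Subtype.ext (one_smul G x.1)
      mul_smul := fun a b x => Subtype.ext (mul_smul (a : G) (b : G) x.1) }
  letI actJ : MulAction J Ω :=
    { smul := fun u x => ⟨(u : G) • x.1, smul_le_of_mem_nz (Subgroup.le_normalizer u.2) x.2⟩
      one_smul := fun x => Subtype.ext (one_smul G x.1)
      mul_smul := fun a b x => Subtype.ext (mul_smul (a : G) (b : G) x.1) }
  haveI : MulAction.IsPretransitive J Ω := ⟨fun x y => by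
    obtain ⟨s, hs, h⟩ := exists_mem_smul_eq x.2 y.2
    exact ⟨⟨s, hs⟩, Subtype.ext h⟩⟩
  have hcard : Nat.card Ω ∣ Nat.card J := by
    have := MulAction.index_stabilizer_of_transitive J (⟨S, hS⟩ : Ω)
    rw [← this]
    exact Subgroup.index_dvd_card _
  have hnd : ¬ p ∣ Nat.card Ω := fun h => hJ (h.trans hcard)
  obtain ⟨x, hx⟩ := hP.nonempty_fixed_point_of_prime_not_dvd_card Ω hnd
  refine ⟨x.1, x.2, fun u hu => ?_⟩
  exact Sylow.smul_eq_iff_mem_normalizer.mp (congrArg Subtype.val (hx ⟨u, hu⟩))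

/-- `p` does not divide the order of a `q`-group. -/
theorem not_dvd_card_of_isPGroup (hpq : p ≠ q) {H : Type*} [Group H] [Finite H] (h : IsPGroup q H) :
    ¬ p ∣ Nat.card H := by
  obtain ⟨k, hk⟩ := IsPGroup.iff_card.mp h
  rw [hk]
  intro hd
  have := (Nat.prime_dvd_prime_iff_eq hp.out hq.out).mp (hp.out.dvd_of_dvd_pow hd)
  exact hpq this

/-- A normal `r`-subgroup lies in every subgroup of index prime to `r`. -/
theorem le_of_normal_pgroup {R T : Subgroup G} (hR : R.Normal) (hRp : IsPGroup q R)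
    (hT : ¬ q ∣ T.index) : R ≤ T := by
  obtain ⟨a, ha⟩ := hRp.nonempty_fixed_point_of_prime_not_dvd_card (G ⧸ T) hT
  obtain ⟨g, rfl⟩ := QuotientGroup.mk_surjective a
  intro x hx
  have h1 := ha ⟨g * x * g⁻¹, hR.conj_mem x hx g⟩
  have h2 : ((g * x * g⁻¹ * g : G) : G ⧸ T) = (g : G ⧸ T) := h1
  have h3 := QuotientGroup.eq.mp h2.symm
  simpa using h3

/-- A `q`-subgroup is conjugate into every subgroup of index prime to `q`. -/
theorem exists_conj_le {R T : Subgroup G} (hRp : IsPGroup q R) (hT : ¬ q ∣ T.index) :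
    ∃ g : G, ∀ u ∈ R, g⁻¹ * u * g ∈ T := by
  obtain ⟨a, ha⟩ := hRp.nonempty_fixed_point_of_prime_not_dvd_card (G ⧸ T) hT
  obtain ⟨g, rfl⟩ := QuotientGroup.mk_surjective a
  refine ⟨g, fun u hu => ?_⟩
  have h1 := ha ⟨u, hu⟩
  have h2 : ((u * g : G) : G ⧸ T) = (g : G ⧸ T) := h1
  have h3 := QuotientGroup.eq.mp h2.symm
  simpa [mul_assoc] using h3

end Aux

section Quot

variable {G : Type u} [Group G] [Finite G] {p q : ℕ} [hp : Fact p.Prime] [hq : Fact q.Prime]
  (M : Subgroup G) [hM : M.Normal]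

theorem mem_sup_iff_map (H : Subgroup G) (z : G) :
    z ∈ H ⊔ M ↔ (z : G ⧸ M) ∈ H.map (QuotientGroup.mk' M) := by
  have h1 : (H.map (QuotientGroup.mk' M)).comap (QuotientGroup.mk' M) = H ⊔ M := by
    rw [Subgroup.comap_map_eq, QuotientGroup.ker_mk']
  rw [← h1]
  rfl

/-- Lifting normalizers through a quotient. -/
theorem exists_mem_nz_of_map (P : Sylow p G) {x : G}
    (hx : (x : G ⧸ M) ∈ Nz ((P : Subgroup G).map (QuotientGroup.mk' M))) :
    ∃ n ∈ Nz (P : Subgroup G), (n : G ⧸ M) = x := by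
  set J : Subgroup G := (P : Subgroup G) ⊔ M with hJ
  have hxJ : x ∈ Nz J := by
    rw [Subgroup.mem_normalizer_iff]
    intro z
    rw [hJ, mem_sup_iff_map, mem_sup_iff_map]
    have h1 := Subgroup.mem_normalizer_iff.mp hx (z : G ⧸ M)
    rw [h1]
    rfl
  have hPJ : (P : Subgroup G) ≤ J := le_sup_left
  obtain ⟨s, hs, hs2⟩ := exists_mem_smul_eq (smul_le_of_mem_nz hxJ hPJ) hPJ
  have hn : s * x ∈ Nz (P : Subgroup G) :=
    Sylow.smul_eq_iff_mem_normalizer.mp (by rw [mul_smul]; exact hs2)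
  have hs' := (mem_sup_iff_map M (P : Subgroup G) s).mp hs
  obtain ⟨a, ha, hae⟩ := hs'
  refine ⟨a⁻¹ * (s * x), mul_mem (Subgroup.le_normalizer (inv_mem ha)) hn, ?_⟩
  have hae' : (a : G ⧸ M) = s := hae
  rw [QuotientGroup.mk_mul, QuotientGroup.mk_inv, QuotientGroup.mk_mul, hae']
  group

/-- Normalizer containment passes to quotients. -/
theorem map_nz_le (P : Sylow p G) (Q : Sylow q G)
    (hN : Nz (P : Subgroup G) ≤ Nz (Q : Subgroup G)) :
    Nz ((P : Subgroup G).map (QuotientGroup.mk' M)) ≤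
      Nz ((Q : Subgroup G).map (QuotientGroup.mk' M)) := by
  intro x hx
  obtain ⟨g, rfl⟩ := QuotientGroup.mk_surjective x
  obtain ⟨n, hn, hne⟩ := exists_mem_nz_of_map M P hx
  rw [← hne]
  exact Subgroup.le_normalizer_map _ ⟨n, hN hn, rfl⟩

end Quot

section Pick

variable {G : Type u} [Group G] [Finite G] {p q : ℕ} [hp : Fact p.Prime] [hq : Fact q.Prime]

/-- A nontrivial `p`-solvable and `q`-solvable group has a nontrivial normal subgroup which is an
abelian `p`-group, a `q`-group or of order prime to both. -/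
theorem exists_normal_type [Nontrivial G] (hGp : IsPSolvable p G) (hGq : IsPSolvable q G) :
    ∃ M : Subgroup G, M.Normal ∧ M ≠ ⊥ ∧
      ((IsPGroup p M ∧ ∀ a ∈ M, ∀ b ∈ M, a * b = b * a) ∨ IsPGroup q M ∨
        (¬ p ∣ Nat.card M ∧ ¬ q ∣ Nat.card M)) := by
  obtain ⟨N, hNn, hNb, hNc⟩ := isPSolvable_exists_normal hGp
  haveI := hNn
  haveI : Nontrivial N := (Subgroup.nontrivial_iff_ne_bot N).mpr hNb
  have hcard : ∀ A : Subgroup N, Nat.card (A.map N.subtype) = Nat.card A := fun A =>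
    Nat.card_congr (A.equivMapOfInjective N.subtype N.subtype_injective).symm.toEquiv
  have hcardle : ∀ A : Subgroup N, Nat.card (A.map N.subtype) ∣ Nat.card N := fun A => by
    rw [hcard]
    exact Subgroup.card_subgroup_dvd_card A
  have hne : ∀ A : Subgroup N, A ≠ ⊥ → A.map N.subtype ≠ ⊥ := fun A hA h => hA (by
    rwa [Subgroup.map_eq_bot_iff_of_injective _ N.subtype_injective] at h)
  rcases hNc with ⟨m, hm⟩ | hcop
  · have hNp : IsPGroup p N := IsPGroup.of_card hm
    refine ⟨(Subgroup.center N).map N.subtype, ConjAct.normal_of_characteristic_of_normal, ?_,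
      Or.inl ⟨(hNp.to_subgroup _).map N.subtype, ?_⟩⟩
    · apply hne
      exact (Subgroup.nontrivial_iff_ne_bot _).mp hNp.center_nontrivial
    · rintro _ ⟨a, ha, rfl⟩ _ ⟨b, hb, rfl⟩
      have := Subgroup.mem_center_iff.mp ha b
      exact (congrArg Subtype.val this).symm
  · have hNq := isPSolvable_subgroup N hGq
    have hpN : ∀ A : Subgroup N, ¬ p ∣ Nat.card (A.map N.subtype) := fun A hd => by
      have h1 := hd.trans (hcardle A)
      have h2 : p ∣ 1 := by
        rw [← Nat.Coprime.gcd_eq_one hcop.symm]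
        exact Nat.dvd_gcd dvd_rfl h1
      exact hp.out.one_lt.ne' (Nat.dvd_one.mp h2)
    by_cases hA : pPrimeCore q N = ⊥
    · have h1 := centralizer_pCore_le_of_isPSolvable hNq hA
      have hne' : pCore q N ≠ ⊥ := by
        intro h0
        rw [h0] at h1
        have h2 : Subgroup.centralizer ((⊥ : Subgroup N) : Set N) = ⊤ := by
          ext x
          simp [Subgroup.mem_centralizer_iff]
        rw [h2] at h1
        exact bot_ne_top (le_antisymm bot_le h1)
      refine ⟨(pCore q N).map N.subtype, ConjAct.normal_of_characteristic_of_normal, hne _ hne',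
        Or.inr (Or.inl ?_)⟩
      exact pCore_isPGroup.map N.subtype
    · refine ⟨(pPrimeCore q N).map N.subtype, ConjAct.normal_of_characteristic_of_normal, hne _ hA,
        Or.inr (Or.inr ⟨hpN _, ?_⟩)⟩
      rw [hcard]
      intro hd
      have h2 : q ∣ 1 := by
        rw [← Nat.Coprime.gcd_eq_one (pPrimeCore_coprime (p := q) (G := N))]
        exact Nat.dvd_gcd hd dvd_rfl
      exact hq.out.one_lt.ne' (Nat.dvd_one.mp h2)

end Pick

section Star

theorem not_dvd_card_sup {G : Type u} [Group G] [Finite G] {p : ℕ} [hp : Fact p.Prime]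
    {Q M : Subgroup G} [M.Normal] (hQ : ¬ p ∣ Nat.card Q) (hM : ¬ p ∣ Nat.card M) :
    ¬ p ∣ Nat.card (Q ⊔ M : Subgroup G) := by
  have h1 : M ≤ Q ⊔ M := le_sup_right
  rw [card_eq_card_mul_relIndex h1, sup_comm, Subgroup.relIndex_sup_left]
  intro hd
  rcases (Nat.Prime.dvd_mul hp.out).mp hd with h | h
  · exact hM h
  · exact hQ (h.trans (Subgroup.relIndex_dvd_card _ _))

/-- **The key lemma**: `Q` lies in every subgroup of index prime to `q` containing `P`. -/
theorem star {p q : ℕ} [hp : Fact p.Prime] [hq : Fact q.Prime] (hpq : p ≠ q) : ∀ (n : ℕ) (G : Type u) [Group G] [Finite G],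
    Nat.card G = n → IsPSolvable p G → IsPSolvable q G → ∀ (P : Sylow p G) (Q : Sylow q G),
    Nz (P : Subgroup G) ≤ Nz (Q : Subgroup G) → ∀ T : Subgroup G, (P : Subgroup G) ≤ T →
    ¬ q ∣ T.index → (Q : Subgroup G) ≤ T := by
  intro n
  induction n using Nat.strong_induction_on with
  | _ n ih =>
  intro G _ _ hcard hGp hGq P Q hN T hPT hTq
  by_cases hs : Subsingleton G
  · intro x _
    rw [Subsingleton.elim x 1]
    exact T.one_mem
  rw [not_subsingleton_iff_nontrivial] at hs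
  obtain ⟨M, hMn, hMb, hMt⟩ := exists_normal_type hGp hGq
  haveI := hMn
  let π := QuotientGroup.mk' M
  have hπ : Function.Surjective π := QuotientGroup.mk'_surjective M
  have hlt : Nat.card (G ⧸ M) < n := by
    rw [← hcard, ← Subgroup.card_mul_index M]
    have h1 : 1 < Nat.card M := M.one_lt_card_iff_ne_bot.mpr hMb
    have h2 : 0 < M.index := Nat.pos_of_ne_zero Subgroup.index_ne_zero_of_finite
    have h3 : Nat.card (G ⧸ M) = M.index := rfl
    rw [h3]
    nlinarith
  have hle : (Q : Subgroup G) ≤ T ⊔ M := by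
    have h1 := ih _ hlt (G ⧸ M) rfl (isPSolvable_of_surjective π hπ hGp)
      (isPSolvable_of_surjective π hπ hGq) (P.mapSurjective hπ) (Q.mapSurjective hπ) (by
        rw [Sylow.coe_mapSurjective, Sylow.coe_mapSurjective]
        exact map_nz_le M P Q hN) (T.map π) (by
        rw [Sylow.coe_mapSurjective]
        exact Subgroup.map_mono hPT) (fun hd => hTq (hd.trans (Subgroup.index_map_dvd T hπ)))
    rw [Sylow.coe_mapSurjective] at h1
    intro x hx
    rw [mem_sup_iff_map]
    exact h1 ⟨x, hx, rfl⟩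
  rcases hMt with ⟨hMp, -⟩ | hMq | ⟨hMp, hMq⟩
  · have hMP : M ≤ (P : Subgroup G) := hMp.le_sylow_of_normal P
    rwa [sup_eq_left.mpr (hMP.trans hPT)] at hle
  · have hMT : M ≤ T := le_of_normal_pgroup hMn hMq hTq
    rwa [sup_eq_left.mpr hMT] at hle
  · -- the coprime case
    obtain ⟨g, hg⟩ := exists_conj_le Q.isPGroup' hTq
    set S₀ : Sylow q G := g⁻¹ • Q with hS₀
    have hS₀T : (S₀ : Subgroup G) ≤ T := by
      intro x hx
      rw [hS₀, Sylow.coe_subgroup_smul, Subgroup.mem_pointwise_smul_iff_inv_smul_mem] at hx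
      have h1 := hg _ hx
      simpa [mul_assoc] using h1
    have hQJ : (Q : Subgroup G) ≤ M ⊔ T := by rwa [sup_comm]
    obtain ⟨s, hs, hs2⟩ := exists_mem_smul_eq (hS₀T.trans le_sup_right) hQJ
    have hs' : s ∈ ((M ⊔ T : Subgroup G) : Set G) := hs
    rw [Subgroup.normal_mul] at hs'
    obtain ⟨m, hm, t, ht, rfl⟩ := hs'
    set S : Sylow q G := t • S₀ with hS
    have hST : (S : Subgroup G) ≤ T := smul_le_of_mem_nz (Subgroup.le_normalizer ht) hS₀T
    rw [mul_smul] at hs2
    have hSQ : (S : Subgroup G) ≤ (Q : Subgroup G) ⊔ M := by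
      have e : S = m⁻¹ • Q := by rw [← hs2, inv_smul_smul]
      rw [e]
      apply smul_le_of_mem_nz
      · rw [Subgroup.mem_normalizer_iff]
        intro z
        rw [mem_sup_iff_map, mem_sup_iff_map]
        have hm1 : ((m⁻¹ : G) : G ⧸ M) = 1 := (QuotientGroup.eq_one_iff _).mpr (inv_mem hm)
        have e2 : ((m⁻¹ * z * m⁻¹⁻¹ : G) : G ⧸ M) = (z : G ⧸ M) := by
          have hm2 : ((m : G) : G ⧸ M) = 1 := (QuotientGroup.eq_one_iff _).mpr hm
          rw [inv_inv, QuotientGroup.mk_mul, QuotientGroup.mk_mul, hm1, hm2, one_mul, mul_one]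
        rw [e2]
      · exact le_sup_left
    have hcardQ : ¬ p ∣ Nat.card (Q : Subgroup G) := not_dvd_card_of_isPGroup hpq Q.isPGroup'
    have hJ₁ : ¬ p ∣ Nat.card (T ⊓ ((Q : Subgroup G) ⊔ M) : Subgroup G) := fun hd =>
      not_dvd_card_sup hcardQ hMp (hd.trans (Subgroup.card_dvd_of_le inf_le_right))
    have hPQ : (P : Subgroup G) ≤ Nz (Q : Subgroup G) := Subgroup.le_normalizer.trans hN
    have hPJ₁ : (P : Subgroup G) ≤ Nz (T ⊓ ((Q : Subgroup G) ⊔ M) : Subgroup G) := by
      intro x hx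
      rw [Subgroup.mem_normalizer_iff]
      intro z
      have hxT : x ∈ Nz T := Subgroup.le_normalizer (hPT hx)
      have hxH : x ∈ Nz ((Q : Subgroup G) ⊔ M : Subgroup G) := by
        rw [Subgroup.mem_normalizer_iff]
        intro w
        rw [mem_sup_iff_map, mem_sup_iff_map]
        have h1 := Subgroup.le_normalizer_map π ⟨x, hPQ hx, rfl⟩
        exact (Subgroup.mem_normalizer_iff.mp h1) (w : G ⧸ M)
      rw [Subgroup.mem_inf, Subgroup.mem_inf, Subgroup.mem_normalizer_iff.mp hxT z,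
        Subgroup.mem_normalizer_iff.mp hxH z]
    obtain ⟨S', hS'le, hS'P⟩ := exists_fixed_sylow P.isPGroup' _ hPJ₁ hJ₁ S (le_inf hST hSQ)
    have e := sylow_unique P hN hS'P
    rw [← e]
    exact hS'le.trans inf_le_left

end Star

end Cfsg.Agent.Lib.TwoPrimes.Basic
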