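import Mathlib
import Cfsg.Agent.S4865
import Cfsg.Agent.Lib.TwoPrimes.Basic
import Cfsg.Agent.Lib.Coprime.Action

/-!
# Fixed characters and fixed points for two commuting-type coprime actions
-/

set_option autoImplicit false
set_option linter.unusedSectionVars false
set_option linter.style.haveILetI false

namespace Cfsg.Agent.Lib.TwoPrimes.Count

open Cfsg Cfsg.Agent.Lib.Char.Basic Cfsg.Agent.Lib.Char.Complete Cfsg.Agent.Lib.DGN.Basic
open Cfsg.Agent.Lib.DGN.Invariant Cfsg.Agent.S4865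
open scoped Classical

universe u

/-- **Jordan's lemma.** -/
theorem eq_top_of_forall_conj_mem {X : Type*} [Group X] [Finite X] (H : Subgroup X)
    (h : ∀ x : X, ∃ g : X, g * x * g⁻¹ ∈ H) : H = ⊤ := by
  let _ := Fintype.ofFinite X
  let _ := Fintype.ofFinite (X ⧸ H)
  let _ : ∀ g : X, Fintype (MulAction.fixedBy (X ⧸ H) g) := fun g => Fintype.ofFinite _
  let _ : Fintype (MulAction.orbitRel.Quotient X (X ⧸ H)) := Fintype.ofFinite _
  have hB := MulAction.sum_card_fixedBy_eq_card_orbits_mul_card_group (G := X) (X := X ⧸ H)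
  have horb : Fintype.card (MulAction.orbitRel.Quotient X (X ⧸ H)) = 1 := by
    rw [Fintype.card_eq_one_iff]
    refine ⟨Quotient.mk _ ((1 : X) : X ⧸ H), fun y => ?_⟩
    induction y using Quotient.inductionOn with
    | h y =>
      apply Quotient.sound
      obtain ⟨g, hg⟩ := MulAction.exists_smul_eq X ((1 : X) : X ⧸ H) y
      exact ⟨g, hg⟩
  rw [horb, one_mul] at hB
  have hpos : ∀ g : X, 1 ≤ Fintype.card (MulAction.fixedBy (X ⧸ H) g) := by
    intro g
    obtain ⟨c, hc⟩ := h g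
    have hmem : ((c⁻¹ : X) : X ⧸ H) ∈ MulAction.fixedBy (X ⧸ H) g := by
      rw [MulAction.mem_fixedBy]
      change ((g * c⁻¹ : X) : X ⧸ H) = _
      rw [QuotientGroup.eq]
      have e : (g * c⁻¹)⁻¹ * c⁻¹ = (c * g * c⁻¹)⁻¹ := by group
      rw [e]
      exact H.inv_mem hc
    exact Fintype.card_pos_iff.mpr ⟨⟨_, hmem⟩⟩
  have hone : Fintype.card (MulAction.fixedBy (X ⧸ H) (1 : X)) = Fintype.card (X ⧸ H) := by
    rw [Fintype.card_congr (Equiv.subtypeUnivEquiv (fun y => by simp))]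
  have hsum : Fintype.card (X ⧸ H) + (Fintype.card X - 1) ≤
      ∑ g : X, Fintype.card (MulAction.fixedBy (X ⧸ H) g) := by
    rw [← Finset.add_sum_erase _ _ (Finset.mem_univ (1 : X)), hone]
    apply Nat.add_le_add_left
    have h1 : (Finset.univ.erase (1 : X)).card = Fintype.card X - 1 := by
      rw [Finset.card_erase_of_mem (Finset.mem_univ _), Finset.card_univ]
    rw [← h1]
    calc (Finset.univ.erase (1 : X)).card = ∑ _g ∈ Finset.univ.erase (1 : X), 1 := by simp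
      _ ≤ _ := Finset.sum_le_sum fun g _ => hpos g
  rw [hB] at hsum
  have hcX : 0 < Fintype.card X := Fintype.card_pos
  have hi : H.index = 1 := by
    have h1 : H.index = Fintype.card (X ⧸ H) := by
      rw [Subgroup.index, Nat.card_eq_fintype_card]
    have h2 : 0 < H.index := Nat.pos_of_ne_zero Subgroup.index_ne_zero_of_finite
    omega
  exact Subgroup.index_eq_one.mp hi

variable {G : Type u} [Group G] [Fintype G]

/-- Conjugacy of fixed elements: a coprime action. -/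
theorem exists_conj_fixed_of_conj {r : ℕ} (hr : r.Prime) {S K : Subgroup G} (hS : IsPGroup r S)
    (hSK : ∀ x ∈ S, ∀ k ∈ K, x * k * x⁻¹ ∈ K) (hK : ¬ r ∣ Nat.card K) {a b k : G}
    (ha : a ∈ Subgroup.centralizer (S : Set G)) (hb : b ∈ Subgroup.centralizer (S : Set G))
    (hk : k ∈ K) (hab : k * a * k⁻¹ = b) :
    ∃ k' ∈ K ⊓ Subgroup.centralizer (S : Set G), k' * a * k'⁻¹ = b := by
  haveI : Fact r.Prime := ⟨hr⟩
  have hSn : S ≤ Subgroup.normalizer (K : Set G) := by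
    intro x hx
    refine Subgroup.mem_normalizer_iff.mpr fun z => ⟨fun hz => hSK x hx z hz, fun hz => ?_⟩
    have := hSK x⁻¹ (S.inv_mem hx) _ hz
    simpa [mul_assoc] using this
  have hcop : (Nat.card S).Coprime (Nat.card K) := by
    obtain ⟨n, hn⟩ := IsPGroup.iff_card.mp hS
    rw [hn]
    exact Nat.Coprime.pow_left _ ((Nat.Prime.coprime_iff_not_dvd hr).mpr hK)
  let N : Subgroup G := K ⊓ Subgroup.centralizer ({a} : Set G)
  have hcomm : ∀ x ∈ S, x * a = a * x := fun x hx => (Subgroup.mem_centralizer_iff.mp ha x hx)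
  have hcommb : ∀ x ∈ S, x * b = b * x := fun x hx => (Subgroup.mem_centralizer_iff.mp hb x hx)
  have hSN : S ≤ Subgroup.normalizer (N : Set G) := by
    intro x hx
    refine Subgroup.mem_normalizer_iff.mpr fun z => ?_
    have h1 := Subgroup.mem_normalizer_iff.mp (hSn hx) z
    have h2 : z ∈ Subgroup.centralizer ({a} : Set G) ↔
        x * z * x⁻¹ ∈ Subgroup.centralizer ({a} : Set G) := by
      simp only [Subgroup.mem_centralizer_singleton_iff]
      have h3 := hcomm x hx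
      have e3 : x * a * x⁻¹ = a := by rw [h3, mul_inv_cancel_right]
      have h5 := Commute.conj_iff (a := z) (b := a) x
      rw [e3] at h5
      exact h5.symm
    rw [Subgroup.mem_inf, Subgroup.mem_inf, h1, h2]
  obtain ⟨n, hn, hkn⟩ := Cfsg.Agent.Lib.Coprime.Action.exists_fixed_in_coset (A := S) (K := K) N hSn hcop
    (Or.inl (Cfsg.Agent.Lib.DGN.Main.isSolvable_of_isPGroup hr hS)) inf_le_left
    hSN hk (fun x hx => by
      refine Subgroup.mem_inf.mpr ⟨?_, ?_⟩
      · have h1 := hSK x hx k hk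
        have e : k⁻¹ * x * k * x⁻¹ = k⁻¹ * (x * k * x⁻¹) := by group
        rw [e]
        exact K.mul_mem (K.inv_mem hk) h1
      · rw [Subgroup.mem_centralizer_singleton_iff]
        -- both sides
        have h3 := hcomm x hx
        have h4 := hcommb x hx
        have hbk : k⁻¹ * b = a * k⁻¹ := by
          rw [← hab]
          group
        have hkb : b * k = k * a := by
          rw [← hab]
          group
        have h5 : x⁻¹ * a = a * x⁻¹ := (show Commute x a from h3).inv_left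
        calc k⁻¹ * x * k * x⁻¹ * a = k⁻¹ * x * (k * a) * x⁻¹ := by
              simp only [mul_assoc, h5]
          _ = k⁻¹ * (x * b) * k * x⁻¹ := by rw [← hkb]; group
          _ = (k⁻¹ * b) * x * k * x⁻¹ := by rw [h4]; group
          _ = a * (k⁻¹ * x * k * x⁻¹) := by rw [hbk]; group)
  refine ⟨k * n, hkn, ?_⟩
  have hn' : n * a = a * n := (Subgroup.mem_centralizer_singleton_iff.mp hn.2)
  calc k * n * a * (k * n)⁻¹ = k * (n * a) * n⁻¹ * k⁻¹ := by group
    _ = k * a * k⁻¹ := by rw [hn']; group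
    _ = b := hab

/-- The centralizer inside `K`. -/
abbrev Cn (K P : Subgroup G) : Subgroup G := K ⊓ Subgroup.centralizer (P : Set G)

theorem mem_Cn_iff {K P : Subgroup G} {k : G} :
    k ∈ Cn K P ↔ k ∈ K ∧ ∀ x ∈ P, x * k * x⁻¹ * k⁻¹ = 1 := by
  rw [Subgroup.mem_inf, Subgroup.mem_centralizer_iff]
  refine and_congr_right fun _ => forall₂_congr fun x _ => ?_
  constructor
  · intro h
    rw [h]
    group
  · intro h
    have h1 : x * k * x⁻¹ = k := mul_inv_eq_one.mp h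
    rw [mul_inv_eq_iff_eq_mul] at h1
    exact h1

theorem PI_of_Cn {K P : Subgroup G} (f : Cn K P → ℂ) : PI P (Cn K P) f := by
  intro x hx k k' hk
  have h1 := (mem_Cn_iff.mp k.2).2 x hx
  have h2 : x * (k : G) * x⁻¹ = k := mul_inv_eq_one.mp h1
  exact congrArg f (Subtype.ext (hk.trans h2))

/-- The data of the correspondence for a coprime action. -/
theorem data_coprime {p : ℕ} [hp : Fact p.Prime] {P K : Subgroup G} (hP : IsPGroup p P)
    (hPK : ∀ x ∈ P, ∀ k ∈ K, x * k * x⁻¹ ∈ K) (hcop : ¬ p ∣ Nat.card K) :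
    Data p P ⊥ K (Cn K P) where
  hP := hP
  hPK := hPK
  hPQ := fun x _ q hq => by
    rw [Subgroup.mem_bot] at hq ⊢
    rw [hq]
    group
  hQK := bot_le
  hQn := fun k _ q hq => by
    rw [Subgroup.mem_bot] at hq ⊢
    rw [hq]
    group
  hQp := IsPGroup.of_card (n := 0) (by simp)
  hQs := by
    rw [Subgroup.relIndex_bot_left]
    exact hcop
  hCK := inf_le_left
  hC := fun k => by
    rw [mem_Cn_iff]
    simp only [Subgroup.mem_bot]
  hQC := bot_le

/-- The number of `P`-invariant characters is the number of classes of the fixed points. -/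
theorem card_PI_eq {p : ℕ} [hp : Fact p.Prime] {P K : Subgroup G} (hP : IsPGroup p P)
    (hPK : ∀ x ∈ P, ∀ k ∈ K, x * k * x⁻¹ ∈ K) (hcop : ¬ p ∣ Nat.card K) :
    Nat.card {θ : IrrCharacter K // PI P K θ.1} = Nat.card (ConjClasses (Cn K P)) := by
  have hD := data_coprime hP hPK hcop
  rw [← card_irr_eq_card_conjClasses]
  have hR : ∀ θ : {θ : IrrCharacter K // PI P K θ.1}, ∃ ξ : IrrCharacter (Cn K P),
      Cor p P hD.hCK θ.1.1 ξ.1 := by
    intro θ
    obtain ⟨ξ, h⟩ := Cor_right hD θ.1.2 θ.2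
    exact ⟨⟨ξ, h.2.2.1⟩, h⟩
  have hL : ∀ ξ : IrrCharacter (Cn K P), ∃ θ : {θ : IrrCharacter K // PI P K θ.1},
      Cor p P hD.hCK θ.1.1 ξ.1 := by
    intro ξ
    obtain ⟨θ, h⟩ := Cor_left hD ξ.2 (PI_of_Cn _)
    exact ⟨⟨⟨θ, h.1⟩, h.2.1⟩, h⟩
  choose f hf using hR
  choose g hg using hL
  refine Nat.card_congr ⟨f, g, fun θ => ?_, fun ξ => ?_⟩
  · apply Subtype.ext
    apply Subtype.ext
    exact Cor_uniq_left hD (hg (f θ)) (hf θ)
  · apply Subtype.ext
    exact Cor_uniq_right hD (hf (g ξ)) (hg ξ)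

/-- If every `P`-invariant character of `M` is `Q`-invariant, then `Q` centralizes `C_M(P)`. -/
theorem centralizer_le {p q : ℕ} [hp : Fact p.Prime] [hq : Fact q.Prime] {P Q M : Subgroup G}
    (hP : IsPGroup p P) (hQ : IsPGroup q Q)
    (hPM : ∀ x ∈ P, ∀ m ∈ M, x * m * x⁻¹ ∈ M) (hQM : ∀ x ∈ Q, ∀ m ∈ M, x * m * x⁻¹ ∈ M)
    (hPQ : ∀ x ∈ P, ∀ u ∈ Q, x * u * x⁻¹ ∈ Q)
    (hMp : ¬ p ∣ Nat.card M) (hMq : ¬ q ∣ Nat.card M)
    (hfix : ∀ θ : M → ℂ, IsIrrCharacter M θ → PI P M θ → PI Q M θ) :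
    Cn M P ≤ Cn M Q := by
  let D : Subgroup G := Cn M Q
  have hDM : D ≤ M := inf_le_left
  have hPD : ∀ x ∈ P, ∀ d ∈ D, x * d * x⁻¹ ∈ D := by
    intro x hx d hd
    refine mem_Cn_iff.mpr ⟨hPM x hx d (hDM hd), fun u hu => ?_⟩
    have h1 := (mem_Cn_iff.mp hd).2 _ (hPQ x⁻¹ (inv_mem hx) u hu)
    have h2 : x⁻¹ * u * x⁻¹⁻¹ * d * (x⁻¹ * u * x⁻¹⁻¹)⁻¹ = d := mul_inv_eq_one.mp h1
    have e : u * (x * d * x⁻¹) * u⁻¹ = x * (x⁻¹ * u * x⁻¹⁻¹ * d * (x⁻¹ * u * x⁻¹⁻¹)⁻¹) * x⁻¹ := by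
      group
    rw [e, h2]
    group
  have hDc : ¬ p ∣ Nat.card D := fun h => hMp (h.trans (Subgroup.card_dvd_of_le hDM))
  let B : Subgroup G := Cn D P
  have dD : Data q Q ⊥ M D := data_coprime hQ hQM hMq
  have c1 := card_PI_eq hP hPM hMp
  have c2 := card_PI_eq hP hPD hDc
  have c3 : Nat.card {θ : IrrCharacter M // PI P M θ.1} =
      Nat.card {ξ : IrrCharacter D // PI P D ξ.1} := by
    have hR : ∀ θ : {θ : IrrCharacter M // PI P M θ.1}, ∃ ξ : {ξ : IrrCharacter D // PI P D ξ.1},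
        Cor q Q dD.hCK θ.1.1 ξ.1.1 := by
      intro θ
      obtain ⟨ξ, h⟩ := Cor_right dD θ.1.2 (hfix _ θ.1.2 θ.2)
      refine ⟨⟨⟨ξ, h.2.2.1⟩, fun x hx d d' hd => ?_⟩, h⟩
      have hact := Cor_act hPM hPD hPQ ⟨x, hx⟩ h
      have e : θ.1.1 ∘ actOn P M hPM ⟨x, hx⟩ = θ.1.1 := by
        funext k
        exact θ.2 x hx k _ rfl
      rw [e] at hact
      have e2 := Cor_uniq_right dD hact h
      have e3 : d' = actOn P D hPD ⟨x, hx⟩ d := Subtype.ext hd
      rw [e3]
      exact congrFun e2 d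
    have hL : ∀ ξ : {ξ : IrrCharacter D // PI P D ξ.1}, ∃ θ : {θ : IrrCharacter M // PI P M θ.1},
        Cor q Q dD.hCK θ.1.1 ξ.1.1 := by
      intro ξ
      obtain ⟨θ, h⟩ := Cor_left dD ξ.1.2 (PI_of_Cn _)
      refine ⟨⟨⟨θ, h.1⟩, fun x hx k k' hk => ?_⟩, h⟩
      have hact := Cor_act hPM hPD hPQ ⟨x, hx⟩ h
      have e : ξ.1.1 ∘ actOn P D hPD ⟨x, hx⟩ = ξ.1.1 := by
        funext k
        exact ξ.2 x hx k _ rfl
      rw [e] at hact
      have e2 := Cor_uniq_left dD hact h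
      have e3 : k' = actOn P M hPM ⟨x, hx⟩ k := Subtype.ext hk
      rw [e3]
      exact congrFun e2 k
    choose f hf using hR
    choose g hg using hL
    refine Nat.card_congr ⟨f, g, fun θ => ?_, fun ξ => ?_⟩
    · apply Subtype.ext
      apply Subtype.ext
      exact Cor_uniq_left dD (hg (f θ)) (hf θ)
    · apply Subtype.ext
      apply Subtype.ext
      exact Cor_uniq_right dD (hf (g ξ)) (hg ξ)
  have hcl : Nat.card (ConjClasses B) = Nat.card (ConjClasses (Cn M P)) := by rw [← c2, ← c1, c3]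
  have hBC : B ≤ Cn M P := fun b hb => ⟨hDM hb.1, hb.2⟩
  let ι : B →* Cn M P := Subgroup.inclusion hBC
  let cmap : ConjClasses B → ConjClasses (Cn M P) := ConjClasses.map ι
  have hinj : Function.Injective cmap := by
    intro a b
    obtain ⟨a, rfl⟩ := ConjClasses.mk_surjective a
    obtain ⟨b, rfl⟩ := ConjClasses.mk_surjective b
    intro hab
    have h1 : IsConj (ι a) (ι b) := ConjClasses.mk_eq_mk_iff_isConj.mp hab
    obtain ⟨c, hc⟩ := isConj_iff.mp h1
    have hc' : (c : G) * a * (c : G)⁻¹ = b := congrArg Subtype.val hc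
    obtain ⟨k', hk', hk'e⟩ := exists_conj_fixed_of_conj hq.out hQ hQM hMq a.2.1.2 b.2.1.2 c.2.1 hc'
    obtain ⟨k'', hk'', hk''e⟩ := exists_conj_fixed_of_conj hp.out hP hPD hDc a.2.2 b.2.2 hk' hk'e
    apply ConjClasses.mk_eq_mk_iff_isConj.mpr
    exact isConj_iff.mpr ⟨⟨k'', hk''⟩, Subtype.ext hk''e⟩
  have hbij := (Nat.bijective_iff_injective_and_card cmap).mpr ⟨hinj, hcl⟩
  have htop : B.subgroupOf (Cn M P) = ⊤ := by
    apply eq_top_of_forall_conj_mem
    intro c
    obtain ⟨cl, hcl'⟩ := hbij.2 (ConjClasses.mk c)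
    obtain ⟨a, rfl⟩ := ConjClasses.mk_surjective cl
    have h1 : IsConj (ι a) c := ConjClasses.mk_eq_mk_iff_isConj.mp hcl'
    obtain ⟨g, hg⟩ := isConj_iff.mp h1
    refine ⟨g⁻¹, ?_⟩
    rw [Subgroup.mem_subgroupOf]
    have e : g⁻¹ * c * g⁻¹⁻¹ = ι a := by
      rw [← hg]
      group
    rw [e]
    exact a.2
  intro x hx
  have h1 : (⟨x, hx⟩ : Cn M P) ∈ B.subgroupOf (Cn M P) := by
    rw [htop]
    exact Subgroup.mem_top _
  rw [Subgroup.mem_subgroupOf] at h1
  exact h1.1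

end Cfsg.Agent.Lib.TwoPrimes.Count
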