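import Mathlib
import Cfsg.Agent.Lib.TwoPrimes.Count
import Cfsg.Agent.Lib.Blk89.Linear
import Cfsg.Agent.Lib.Coprime.Abelian
import Cfsg.Agent.Lib.Char.Degree
import Cfsg.Agent.Lib.Glauberman.Canonical

/-!
# Characters of degree prime to `p` having degree prime to `q`

If `G` is `p`-solvable and `q`-solvable, `p ≠ q`, and every irreducible character of degree prime to
`p` has degree prime to `q`, then `N_G(P) ≤ N_G(Q)` for suitable Sylow subgroups.
-/

set_option autoImplicit false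
set_option linter.unusedSectionVars false
set_option linter.style.haveILetI false

namespace Cfsg.Agent.Lib.TwoPrimes.Main

open Cfsg Cfsg.Agent.Lib.Char.Basic Cfsg.Agent.Lib.Char.Ortho Cfsg.Agent.Lib.Char.Complete
open Cfsg.Agent.Lib.Char.Induced Cfsg.Agent.Lib.Char.IndRep Cfsg.Agent.Lib.Char.Conj Cfsg.Agent.Lib.Char.Clifford
open Cfsg.Agent.Lib.Char.CliffordCorr Cfsg.Agent.Lib.Char.Degree Cfsg.Agent.Lib.Char.Linear
open Cfsg.Agent.Lib.DGN.Basic Cfsg.Agent.Lib.DGN.Invariant
open Cfsg.Agent.Lib.Core.PSolvable Cfsg.Agent.Lib.Core.Basic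
open Cfsg.Agent.Lib.TwoPrimes.Basic Cfsg.Agent.Lib.TwoPrimes.Count
open Cfsg.Agent.S4864 (Nz)
open Cfsg.Agent.S4865 (PI_of_conjOn conjOn_of_PI)
open scoped Classical ComplexConjugate

universe u

/-- A proper subgroup of a `p`-group is in the kernel of a nontrivial linear character. -/
theorem exists_hom_trivial_on {p : ℕ} [hp : Fact p.Prime] {X : Type*} [Group X] [Finite X]
    (hX : IsPGroup p X) (H : Subgroup X) (hH : H ≠ ⊤) :
    ∃ φ : X →* ℂˣ, φ ≠ 1 ∧ ∀ h ∈ H, φ h = 1 := by
  obtain ⟨R, hR, hHR⟩ := (eq_top_or_exists_le_coatom H).resolve_left hH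
  haveI := hX.isNilpotent
  have hcoat : ∀ H : Subgroup X, IsCoatom H → H.Normal :=
    ((Group.isNilpotent_of_finite_tfae (G := X)).out 0 2).mp ‹_›
  haveI hRn : R.Normal := hcoat R hR
  let Y := X ⧸ R
  haveI hYn : Nontrivial Y := by
    rw [← not_subsingleton_iff_nontrivial]
    intro hs
    apply hR.1
    rw [← Subgroup.index_eq_one]
    exact Nat.card_eq_one_iff_unique.mpr ⟨hs, ⟨1⟩⟩
  have hYp : IsPGroup p Y := hX.to_quotient R
  have hcen := hYp.center_nontrivial
  let C : Subgroup X := (Subgroup.center Y).comap (QuotientGroup.mk' R)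
  have hRC : R ≤ C := by
    intro r hr
    change ((r : X) : Y) ∈ Subgroup.center Y
    rw [(QuotientGroup.eq_one_iff r).mpr hr]
    exact Subgroup.one_mem _
  have hCtop : C = ⊤ := by
    by_contra hne
    have hCR : C = R := by
      by_contra hne2
      exact hne (hR.2 C (lt_of_le_of_ne hRC (Ne.symm hne2)))
    have : Subgroup.center Y = ⊥ := by
      rw [eq_bot_iff]
      intro y hy
      obtain ⟨x, rfl⟩ := QuotientGroup.mk_surjective y
      have h1 : x ∈ C := hy
      rw [hCR] at h1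
      exact (Subgroup.mem_bot).mpr ((QuotientGroup.eq_one_iff x).mpr h1)
    rw [this] at hcen
    exact not_nontrivial _ hcen
  have hcentop : Subgroup.center Y = ⊤ := by
    rw [eq_top_iff]
    intro y _
    obtain ⟨x, rfl⟩ := QuotientGroup.mk_surjective y
    have h1 : x ∈ C := by
      rw [hCtop]
      exact Subgroup.mem_top _
    exact h1
  have hcomm : commutator Y = ⊥ := by
    rw [eq_bot_iff, commutator_def, Subgroup.commutator_le]
    intro a _ b _
    have h1 : a ∈ Subgroup.center Y := by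
      rw [hcentop]
      exact Subgroup.mem_top _
    rw [Subgroup.mem_bot, commutatorElement_eq_one_iff_mul_comm]
    exact (Subgroup.mem_center_iff.mp h1 b).symm
  obtain ⟨y, hy⟩ := exists_ne (1 : Y)
  obtain ⟨lam, hlam⟩ := Cfsg.Agent.Lib.Blk89.Linear.exists_hom_ne_one (G := Y) (g := y) (by
    rw [hcomm, Subgroup.mem_bot]
    exact hy)
  refine ⟨lam.comp (QuotientGroup.mk' R), ?_, fun h hh => ?_⟩
  · intro h0
    obtain ⟨x, rfl⟩ := QuotientGroup.mk_surjective y
    apply hlam
    exact DFunLike.congr_fun h0 x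
  · have h1 : ((h : X) : Y) = 1 := (QuotientGroup.eq_one_iff h).mpr (hHR hh)
    change lam ((h : X) : Y) = 1
    rw [h1, map_one]

variable {G : Type u} [Group G] [Fintype G]

/-- A character of degree prime to `p` over a character of a subgroup. -/
theorem exists_irr_over_not_dvd {p : ℕ} [hp : Fact p.Prime] {J : Subgroup G} {β : J → ℂ}
    (hβ : IsIrrCharacter J β) (h : ¬ p ∣ J.index * charDegree β) :
    ∃ χ : IrrCharacter G, ¬ p ∣ charDegree (χ : G → ℂ) ∧ classInner (fun n : J => (χ : G → ℂ) n) β ≠ 0 := by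
  have := finite_irrCharacter (G := G)
  letI : Fintype (IrrCharacter G) := Fintype.ofFinite _
  have hf : IsCharacter G (indFun J β) := isCharacter_indFun J (isCharacter_of_isIrrCharacter hβ)
  have hexp := congrFun (classFunction_eq_sum (isClassFunction_of_isCharacter hf)) 1
  rw [indFun_one, Finset.sum_apply] at hexp
  have hnat : ∀ χ : IrrCharacter G, ∃ m : ℕ, classInner (indFun J β) (χ : G → ℂ) = m := fun χ =>
    exists_nat_classInner hf (isCharacter_of_isIrrCharacter χ.2)
  choose m hm using hnat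
  have hsum : J.index * charDegree β = ∑ χ : IrrCharacter G, m χ * charDegree (χ : G → ℂ) := by
    have h2 : ((J.index * charDegree β : ℕ) : ℂ) =
        ((∑ χ : IrrCharacter G, m χ * charDegree (χ : G → ℂ) : ℕ) : ℂ) := by
      push_cast
      rw [charDegree_natCast (isCharacter_of_isIrrCharacter hβ), hexp]
      refine Finset.sum_congr rfl fun χ _ => ?_
      rw [Pi.smul_apply, smul_eq_mul, hm, charDegree_natCast (isCharacter_of_isIrrCharacter χ.2)]
    exact_mod_cast h2
  by_contra hno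
  push Not at hno
  apply h
  rw [hsum]
  apply Finset.dvd_sum
  intro χ _
  by_cases h0 : m χ = 0
  · rw [h0, zero_mul]
    exact dvd_zero _
  · by_contra hnd
    have hχ : ¬ p ∣ charDegree (χ : G → ℂ) := fun hd => hnd (Dvd.dvd.mul_left hd _)
    have h1 := hno χ hχ
    apply h0
    have h2 : classInner (indFun J β) (χ : G → ℂ) = 0 := by
      rw [classInner_indFun_left J β _ (isClassFunction_of_isIrrCharacter χ.2)]
      rw [← classInner_conj, h1, map_zero]
    rw [hm] at h2
    exact_mod_cast h2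

/-- Extensions for coprime index. -/
theorem exists_ext_coprime {T : Type u} [Group T] [Fintype T] (N : Subgroup T) [hN : N.Normal] {ϑ : N → ℂ}
    (hϑ : IsIrrCharacter N ϑ)
    (hinv : ∀ (g : T) (n : N), ϑ ⟨g * n * g⁻¹, hN.conj_mem (n : T) n.2 g⟩ = ϑ n)
    (hc : Nat.Coprime N.index (Nat.card N)) :
    ∃ χ : T → ℂ, IsIrrCharacter T χ ∧ ∀ n : N, χ n = ϑ n := by
  have hϑc := isCharacter_of_isIrrCharacter hϑ
  obtain ⟨d, hd⟩ := exists_deg_of_isCharacter hϑc
  have hdo : detOrder ϑ ∣ Nat.card N := Cfsg.Agent.Lib.Glauberman.Canonical.detOrder_dvd_card hϑc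
  have hdd : d ∣ Nat.card N := by
    obtain ⟨n, ρ, hρ, hχ⟩ := hϑ
    haveI : ρ.IsIrreducible := hρ
    have h1 := Cfsg.Agent.Lib.Char.Central.finrank_dvd_card (ρ := ρ)
    have h2 : ((Module.finrank ℂ (Fin n → ℂ) : ℕ) : ℂ) = (d : ℂ) := by
      rw [← hd, ← hχ]
      simp [Representation.character]
    have h3 : Module.finrank ℂ (Fin n → ℂ) = d := by exact_mod_cast h2
    rwa [h3] at h1
  have hcop : Nat.Coprime N.index (detOrder ϑ * d) :=
    Nat.Coprime.mul_right (hc.coprime_dvd_right hdo) (hc.coprime_dvd_right hdd)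
  obtain ⟨χ, ⟨hχ, hχN, -⟩, -⟩ := Cfsg.Agent.S0867.result N ϑ hϑ hinv d hd hcop
  exact ⟨χ, hχ, hχN⟩

theorem normal_mem_nz {M : Subgroup G} (hM : M.Normal) (x : G) : x ∈ Nz M :=
  Subgroup.mem_normalizer_iff.mpr fun z => ⟨fun h => hM.conj_mem z h x, fun h => by
    have := hM.conj_mem _ h x⁻¹
    simpa [mul_assoc] using this⟩

theorem centralizer_le_nz (H : Subgroup G) : Subgroup.centralizer (H : Set G) ≤ Nz H := by
  intro n hn
  rw [Subgroup.mem_normalizer_iff]
  intro z
  constructor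
  · intro hz
    have h1 := Subgroup.mem_centralizer_iff.mp hn z hz
    rw [← h1]
    simpa using hz
  · intro hw
    have h1 := Subgroup.mem_centralizer_iff.mp hn _ hw
    have h2 : z = n * z * n⁻¹ := by
      have h3 : n * z = n * (n * z * n⁻¹) := by
        rw [← h1]
        group
      exact mul_left_cancel h3
    rw [h2]
    exact hw

/-- The case of an abelian normal `p`-subgroup. -/
theorem case_p {p q : ℕ} [hp : Fact p.Prime] [hq : Fact q.Prime] (hpq : p ≠ q) (M : Subgroup G)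
    [hMn : M.Normal] (hMp : IsPGroup p M) (hab : ∀ a ∈ M, ∀ b ∈ M, a * b = b * a)
    (P : Sylow p G) (Q : Sylow q G)
    (hNH : Nz (P : Subgroup G) ≤ Nz ((Q : Subgroup G) ⊔ M : Subgroup G))
    (hstar : ∀ T : Subgroup G, (P : Subgroup G) ≤ T → ¬ q ∣ T.index → (Q : Subgroup G) ≤ T)
    (hH : ∀ χ : IrrCharacter G, ¬ p ∣ charDegree (χ : G → ℂ) → ¬ q ∣ charDegree (χ : G → ℂ)) :
    Nz (P : Subgroup G) ≤ Nz (Q : Subgroup G) := by
  have hMP : M ≤ (P : Subgroup G) := hMp.le_sylow_of_normal P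
  set H : Subgroup G := (Q : Subgroup G) ⊔ M with hHdef
  have hQH : (Q : Subgroup G) ≤ H := le_sup_left
  have hPH : (P : Subgroup G) ≤ Nz H := Subgroup.le_normalizer.trans hNH
  have hdec : ∀ s ∈ H, ∃ a ∈ (Q : Subgroup G), ∃ m ∈ M, s = a * m := by
    intro s hs
    have hs' : s ∈ (H : Set G) := hs
    rw [hHdef, Subgroup.mul_normal] at hs'
    obtain ⟨a, ha, m, hm, rfl⟩ := hs'
    exact ⟨a, ha, m, hm, rfl⟩
  -- Frattini
  have hfr : ∀ x ∈ (P : Subgroup G), ∃ m ∈ M, m * x ∈ Nz (Q : Subgroup G) := by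
    intro x hx
    obtain ⟨s, hs, hs2⟩ := exists_mem_smul_eq (smul_le_of_mem_nz (hPH hx) hQH) hQH
    have hn : s * x ∈ Nz (Q : Subgroup G) :=
      Sylow.smul_eq_iff_mem_normalizer.mp (by rw [mul_smul]; exact hs2)
    obtain ⟨a, ha, m, hm, rfl⟩ := hdec s hs
    refine ⟨m, hm, ?_⟩
    have e : m * x = a⁻¹ * (a * m * x) := by group
    rw [e]
    exact mul_mem (Subgroup.le_normalizer (inv_mem ha)) hn
  by_cases hcase : M ≤ Nz (Q : Subgroup G)
  · intro u hu
    obtain ⟨s, hs, hs2⟩ := exists_mem_smul_eq (smul_le_of_mem_nz (hNH hu) hQH) hQH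
    obtain ⟨a, ha, m, hm, rfl⟩ := hdec s hs
    have hsn : a * m ∈ Nz (Q : Subgroup G) := mul_mem (Subgroup.le_normalizer ha) (hcase hm)
    have e : u • Q = Q :=
      calc u • Q = (a * m)⁻¹ • ((a * m) • (u • Q)) := (inv_smul_smul _ _).symm
        _ = (a * m)⁻¹ • Q := by rw [hs2]
        _ = Q := Sylow.smul_eq_iff_mem_normalizer.mpr (inv_mem hsn)
    exact Sylow.smul_eq_iff_mem_normalizer.mp e
  · exfalso
    let P₁ : Subgroup (P : Subgroup G) := (Nz (Q : Subgroup G)).subgroupOf (P : Subgroup G)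
    have hP₁ : P₁ ≠ ⊤ := by
      intro h
      apply hcase
      intro m hm
      have h1 : (⟨m, hMP hm⟩ : (P : Subgroup G)) ∈ P₁ := by
        rw [h]
        exact Subgroup.mem_top _
      exact Subgroup.mem_subgroupOf.mp h1
    obtain ⟨φ, hφ1, hφ⟩ := exists_hom_trivial_on P.isPGroup' P₁ hP₁
    let μ : ↥(P : Subgroup G) → ℂ := fun g => (φ g : ℂ)
    have hμ : IsIrrCharacter (P : Subgroup G) μ := isIrrCharacter_of_hom φ
    let ψ : M →* ℂˣ := φ.comp (Subgroup.inclusion hMP)
    let lam : M → ℂ := fun n => (ψ n : ℂ)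
    have hlam : IsIrrCharacter M lam := isIrrCharacter_of_hom ψ
    have hμ1 : charDegree μ = 1 := charDegree_eq_of_eq_natCast (by simp [μ])
    have hlam1 : charDegree lam = 1 := charDegree_eq_of_eq_natCast (by simp [lam])
    have hindex : ¬ p ∣ (P : Subgroup G).index * charDegree μ := by
      rw [hμ1, mul_one]
      exact P.not_dvd_index
    obtain ⟨χ, hχp, hχμ⟩ := exists_irr_over_not_dvd hμ hindex
    have hχq := hH χ hχp
    have hover : classInner (fun n : M => (χ : G → ℂ) n) lam ≠ 0 := by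
      have h1 := classInner_ne_zero_mono (Subgroup.inclusion hMP)
        (isCharacter_restrict (P : Subgroup G) (isCharacter_of_isIrrCharacter χ.2)) hμ hχμ
        (isCharacter_of_isIrrCharacter hlam) (by
          change classInner lam lam ≠ 0
          rw [classInner_self_of_isIrr hlam]
          exact one_ne_zero)
      exact h1
    set T : Subgroup G := inertia hMn lam with hT
    have hTq : ¬ q ∣ T.index := by
      intro hd
      obtain ⟨e, he⟩ := exists_nat_classInner (isCharacter_restrict M (isCharacter_of_isIrrCharacter χ.2))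
        (isCharacter_of_isIrrCharacter hlam)
      have hdeg := deg_eq_of_constituent hMn χ.2 hlam hover
      have he' : classInner (fun n : M => (χ : G → ℂ) n) lam = e := he
      rw [he'] at hdeg
      have h2 : charDegree (χ : G → ℂ) = e * T.index * charDegree lam := by
        apply charDegree_eq_of_eq_natCast
        rw [hdeg]
        push_cast
        rw [charDegree_natCast (isCharacter_of_isIrrCharacter hlam)]
      apply hχq
      rw [h2]
      exact Dvd.dvd.mul_right (Dvd.dvd.mul_left hd _) _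
    have hPT : (P : Subgroup G) ≤ T := by
      intro x hx
      rw [hT, mem_inertia]
      funext n
      rw [conjOn_apply]
      have e : (Subgroup.inclusion hMP ⟨x * n * x⁻¹, hMn.conj_mem n n.2 x⟩ : (P : Subgroup G)) =
          ⟨x, hx⟩ * Subgroup.inclusion hMP n * (⟨x, hx⟩ : (P : Subgroup G))⁻¹ := Subtype.ext rfl
      change ((φ (Subgroup.inclusion hMP ⟨x * n * x⁻¹, hMn.conj_mem n n.2 x⟩) : ℂˣ) : ℂ) = _
      rw [e, map_mul, map_mul, map_inv, mul_comm, ← mul_assoc, inv_mul_cancel, one_mul]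
      rfl
    have hQT := hstar T hPT hTq
    haveI : IsMulCommutative M := ⟨⟨fun a b => Subtype.ext (hab a a.2 b b.2)⟩⟩
    have hQN : (Q : Subgroup G) ≤ Subgroup.normalizer (M : Set G) := fun x _ => normal_mem_nz hMn x
    have hcop : (Nat.card (Q : Subgroup G)).Coprime (Nat.card M) := by
      obtain ⟨a, ha⟩ := IsPGroup.iff_card.mp Q.isPGroup'
      obtain ⟨b, hb⟩ := IsPGroup.iff_card.mp hMp
      rw [ha, hb]
      exact Nat.Coprime.pow _ _ ((Nat.coprime_primes hq.out hp.out).mpr (Ne.symm hpq))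
    have hsup := Cfsg.Agent.Lib.Coprime.Abelian.fixed_sup_commutator hQN hcop
    let K₀ : Subgroup G := (ψ.ker).map M.subtype
    have h1 : M ⊓ Subgroup.centralizer ((Q : Subgroup G) : Set G) ≤ K₀ := by
      rintro n ⟨hn, hnc⟩
      refine ⟨⟨n, hn⟩, ?_, rfl⟩
      have hnQ : n ∈ Nz (Q : Subgroup G) := centralizer_le_nz _ hnc
      exact hφ _ (Subgroup.mem_subgroupOf.mpr hnQ)
    have h2 : ⁅M, (Q : Subgroup G)⁆ ≤ K₀ := by
      rw [Subgroup.commutator_le]
      intro n hn u hu
      have hinvT : conjOn hMn u lam = lam := (mem_inertia hMn lam u).mp (hQT hu)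
      have hc : (⟨u * n⁻¹ * u⁻¹, hMn.conj_mem _ (inv_mem hn) u⟩ : M) =
          ⟨u * n⁻¹ * u⁻¹, hMn.conj_mem _ (inv_mem hn) u⟩ := rfl
      have h3 : ψ ⟨u * n⁻¹ * u⁻¹, hMn.conj_mem _ (inv_mem hn) u⟩ = ψ ⟨n⁻¹, inv_mem hn⟩ := by
        apply Units.ext
        exact congrFun hinvT ⟨n⁻¹, inv_mem hn⟩
      refine ⟨⟨n, hn⟩ * ⟨u * n⁻¹ * u⁻¹, hMn.conj_mem _ (inv_mem hn) u⟩, ?_, ?_⟩
      · change _ ∈ ψ.ker
        rw [MonoidHom.mem_ker, map_mul, h3, ← map_mul]
        have e : (⟨n, hn⟩ * ⟨n⁻¹, inv_mem hn⟩ : M) = 1 := Subtype.ext (by simp)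
        rw [e, map_one]
      · simp only [Subgroup.subtype_apply, Subgroup.coe_mul, commutatorElement_def]
        group
    have hMK : M ≤ K₀ := by
      have h3 := sup_le h1 h2
      rwa [hsup] at h3
    have hψ : ∀ n : M, ψ n = 1 := by
      intro n
      obtain ⟨n', hn', hne⟩ := hMK n.2
      have e : n' = n := Subtype.ext hne
      rw [← e]
      exact hn'
    apply hφ1
    ext x
    obtain ⟨m, hm, hmx⟩ := hfr x x.2
    have h3 : φ (⟨m, hMP hm⟩ * x) = 1 := hφ _ (Subgroup.mem_subgroupOf.mpr hmx)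
    have h4 : φ ⟨m, hMP hm⟩ = 1 := hψ ⟨m, hm⟩
    rw [map_mul, h4, one_mul] at h3
    rw [h3]
    rfl

/-- The case of a normal subgroup of order prime to `p` and `q`. -/
theorem case_c {p q : ℕ} [hp : Fact p.Prime] [hq : Fact q.Prime] (hpq : p ≠ q) (M : Subgroup G)
    [hMn : M.Normal] (hMp : ¬ p ∣ Nat.card M) (hMq : ¬ q ∣ Nat.card M)
    (P : Sylow p G) (Q : Sylow q G)
    (hNH : Nz (P : Subgroup G) ≤ Nz ((Q : Subgroup G) ⊔ M : Subgroup G))
    (hPQ : (P : Subgroup G) ≤ Nz (Q : Subgroup G))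
    (hstar : ∀ T : Subgroup G, (P : Subgroup G) ≤ T → M ≤ T → ¬ q ∣ T.index → (Q : Subgroup G) ≤ T)
    (hH : ∀ χ : IrrCharacter G, ¬ p ∣ charDegree (χ : G → ℂ) → ¬ q ∣ charDegree (χ : G → ℂ)) :
    Nz (P : Subgroup G) ≤ Nz (Q : Subgroup G) := by
  have hfix : ∀ θ : M → ℂ, IsIrrCharacter M θ → PI (P : Subgroup G) M θ → PI (Q : Subgroup G) M θ := by
    intro θ hθ hθP
    -- the extension
    let J : Subgroup G := M ⊔ (P : Subgroup G)
    have hMJ : M ≤ J := le_sup_left
    have hPJ : (P : Subgroup G) ≤ J := le_sup_right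
    haveI hNJ : (M.subgroupOf J).Normal := normal_subgroupOf (fun a _ q hq => hMn.conj_mem q hq a)
    have hϑ := isIrr_th hMJ hθ
    have hcardMJ : Nat.card (M.subgroupOf J) = Nat.card M :=
      Nat.card_congr (Subgroup.subgroupOfEquivOfLe hMJ).toEquiv
    have hcf := isClassFunction_of_isIrrCharacter hθ
    have hinv : ∀ (g : J) (n : M.subgroupOf J), th hMJ θ ⟨g * n * g⁻¹, hNJ.conj_mem (n : J) n.2 g⟩ =
        th hMJ θ n := by
      rintro ⟨g, hg⟩ ⟨⟨n, hnJ⟩, hn⟩
      have hn' : n ∈ M := hn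
      have hg' : g ∈ (J : Set G) := hg
      rw [Subgroup.normal_mul] at hg'
      obtain ⟨m, hm, x, hx, rfl⟩ := hg'
      have h1 : θ ⟨x * n * x⁻¹, hMn.conj_mem n hn' x⟩ = θ ⟨n, hn'⟩ := hθP x hx _ _ rfl
      have h2 := hcf ⟨x * n * x⁻¹, hMn.conj_mem n hn' x⟩ ⟨m, hm⟩
      have h3 : (⟨m, hm⟩ : M) * ⟨x * n * x⁻¹, hMn.conj_mem n hn' x⟩ * (⟨m, hm⟩ : M)⁻¹ =
          ⟨m * x * n * (m * x)⁻¹, by
            have e : m * x * n * (m * x)⁻¹ = m * (x * n * x⁻¹) * m⁻¹ := by group
            rw [e]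
            exact M.mul_mem (M.mul_mem hm (hMn.conj_mem n hn' x)) (M.inv_mem hm)⟩ := by
        apply Subtype.ext
        simp only [Subgroup.coe_mul, InvMemClass.coe_inv]
        group
      rw [h3] at h2
      exact h2.trans h1
    have hcopMP : Nat.Coprime (Nat.card (P : Subgroup G)) (Nat.card M) := by
      obtain ⟨a, ha⟩ := IsPGroup.iff_card.mp P.isPGroup'
      rw [ha]
      exact Nat.Coprime.pow_left _ ((Nat.Prime.coprime_iff_not_dvd hp.out).mpr hMp)
    have hidx : Nat.Coprime (M.subgroupOf J).index (Nat.card (M.subgroupOf J)) := by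
      rw [hcardMJ]
      have h1 : (M.subgroupOf J).index = M.relIndex J := rfl
      have h2 : M.relIndex J = M.relIndex (P : Subgroup G) := Subgroup.relIndex_sup_left _ _
      rw [h1, h2]
      exact hcopMP.coprime_dvd_left (Subgroup.relIndex_dvd_card _ _)
    obtain ⟨θ', hθ', hθ'e⟩ := exists_ext_coprime (M.subgroupOf J) hϑ hinv hidx
    have hdeg' : charDegree θ' = charDegree θ := by
      apply charDegree_eq_of_eq_natCast
      rw [charDegree_natCast (isCharacter_of_isIrrCharacter hθ)]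
      exact hθ'e 1
    have hnd : ¬ p ∣ J.index * charDegree θ' := by
      rw [hdeg']
      intro hd
      rcases (Nat.Prime.dvd_mul hp.out).mp hd with h | h
      · exact P.not_dvd_index (h.trans (Subgroup.index_dvd_of_le hPJ))
      · exact hMp (h.trans (charDegree_dvd_card hθ))
    obtain ⟨χ, hχp, hχθ⟩ := exists_irr_over_not_dvd hθ' hnd
    have hχq := hH χ hχp
    have hover : classInner (fun n : M => (χ : G → ℂ) n) θ ≠ 0 := by
      have e : θ' ∘ Subgroup.inclusion hMJ = θ := by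
        funext n
        exact hθ'e ⟨⟨n, hMJ n.2⟩, n.2⟩
      have h1 := classInner_ne_zero_mono (Subgroup.inclusion hMJ)
        (isCharacter_restrict J (isCharacter_of_isIrrCharacter χ.2)) hθ' hχθ
        (isCharacter_of_isIrrCharacter hθ) (by
          rw [e, classInner_self_of_isIrr hθ]
          exact one_ne_zero)
      exact h1
    set T : Subgroup G := inertia hMn θ with hT
    have hTq : ¬ q ∣ T.index := by
      intro hd
      obtain ⟨e, he⟩ := exists_nat_classInner (isCharacter_restrict M (isCharacter_of_isIrrCharacter χ.2))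
        (isCharacter_of_isIrrCharacter hθ)
      have hdeg := deg_eq_of_constituent hMn χ.2 hθ hover
      have he' : classInner (fun n : M => (χ : G → ℂ) n) θ = e := he
      rw [he'] at hdeg
      have h2 : charDegree (χ : G → ℂ) = e * T.index * charDegree θ := by
        apply charDegree_eq_of_eq_natCast
        rw [hdeg]
        push_cast
        rw [charDegree_natCast (isCharacter_of_isIrrCharacter hθ)]
      apply hχq
      rw [h2]
      exact Dvd.dvd.mul_right (Dvd.dvd.mul_left hd _) _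
    have hPT : (P : Subgroup G) ≤ T := fun x hx => conjOn_of_PI hMn hθP x hx
    have hMT : M ≤ T := le_inertia hMn hcf
    have hQT := hstar T hPT hMT hTq
    exact PI_of_conjOn hMn (fun x hx => (mem_inertia hMn θ x).mp (hQT hx))
  have hPM : ∀ x ∈ (P : Subgroup G), ∀ m ∈ M, x * m * x⁻¹ ∈ M := fun x _ m hm => hMn.conj_mem m hm x
  have hQM : ∀ x ∈ (Q : Subgroup G), ∀ m ∈ M, x * m * x⁻¹ ∈ M := fun x _ m hm => hMn.conj_mem m hm x
  have hPQ' : ∀ x ∈ (P : Subgroup G), ∀ u ∈ (Q : Subgroup G), x * u * x⁻¹ ∈ (Q : Subgroup G) :=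
    fun x hx u hu => (Subgroup.mem_normalizer_iff.mp (hPQ hx) u).mp hu
  have key := centralizer_le P.isPGroup' Q.isPGroup' hPM hQM hPQ' hMp hMq hfix
  intro u hu
  have hQH : (Q : Subgroup G) ≤ (M ⊔ (Q : Subgroup G) : Subgroup G) := le_sup_right
  have huH : u ∈ Nz (M ⊔ (Q : Subgroup G) : Subgroup G) := by
    rw [sup_comm]
    exact hNH hu
  obtain ⟨s, hs, hs2⟩ := exists_mem_smul_eq hQH (smul_le_of_mem_nz huH hQH)
  have hs' : s ∈ ((M ⊔ (Q : Subgroup G) : Subgroup G) : Set G) := hs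
  rw [Subgroup.normal_mul] at hs'
  obtain ⟨m, hm, a, ha, rfl⟩ := hs'
  have haQ : a • Q = Q := Sylow.smul_eq_iff_mem_normalizer.mpr (Subgroup.le_normalizer ha)
  rw [mul_smul, haQ] at hs2
  let N : Subgroup G := M ⊓ Nz (Q : Subgroup G)
  have hcop : (Nat.card (P : Subgroup G)).Coprime (Nat.card M) := by
    obtain ⟨a, ha⟩ := IsPGroup.iff_card.mp P.isPGroup'
    rw [ha]
    exact Nat.Coprime.pow_left _ ((Nat.Prime.coprime_iff_not_dvd hp.out).mpr hMp)
  have hAK : (P : Subgroup G) ≤ Subgroup.normalizer (M : Set G) := fun x _ => normal_mem_nz hMn x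
  have hAN : (P : Subgroup G) ≤ Subgroup.normalizer (N : Set G) := by
    intro x hx
    rw [Subgroup.mem_normalizer_iff]
    intro z
    rw [Subgroup.mem_inf, Subgroup.mem_inf, Subgroup.mem_normalizer_iff.mp (hAK hx) z,
      Subgroup.mem_normalizer_iff.mp (Subgroup.le_normalizer (hPQ hx)) z]
  obtain ⟨n, hn, hkn⟩ := Cfsg.Agent.Lib.Coprime.Action.exists_fixed_in_coset (A := (P : Subgroup G))
    (K := M) N hAK hcop (Or.inl (Cfsg.Agent.Lib.DGN.Main.isSolvable_of_isPGroup hp.out P.isPGroup'))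
    inf_le_left hAN hm (fun a ha => by
      refine Subgroup.mem_inf.mpr ⟨?_, ?_⟩
      · have e : m⁻¹ * a * m * a⁻¹ = m⁻¹ * (a * m * a⁻¹) := by group
        rw [e]
        exact M.mul_mem (M.inv_mem hm) (hPM a ha m hm)
      · apply Sylow.smul_eq_iff_mem_normalizer.mp
        have h1 : a⁻¹ • Q = Q := Sylow.smul_eq_iff_mem_normalizer.mpr (hPQ (inv_mem ha))
        have huinv : u⁻¹ * a * u ∈ (P : Subgroup G) := Cfsg.Agent.S4864.conj_mem_of_nz hu ha
        have h2 : (u⁻¹ * a * u) • Q = Q := Sylow.smul_eq_iff_mem_normalizer.mpr (hPQ huinv)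
        calc (m⁻¹ * a * m * a⁻¹) • Q = m⁻¹ • (a • (m • (a⁻¹ • Q))) := by
              simp only [mul_smul]
          _ = m⁻¹ • (a • (u • Q)) := by rw [h1, hs2]
          _ = m⁻¹ • (u • ((u⁻¹ * a * u) • Q)) := by
              simp only [← mul_smul]
              congr 2
              group
          _ = m⁻¹ • (u • Q) := by rw [h2]
          _ = Q := by rw [← hs2, inv_smul_smul])
  have hkQ := key hkn
  have hk1 : (m * n) • Q = Q :=
    Sylow.smul_eq_iff_mem_normalizer.mpr (centralizer_le_nz _ hkQ.2)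
  have hnQ : n • Q = Q := Sylow.smul_eq_iff_mem_normalizer.mpr hn.2
  rw [mul_smul, hnQ, hs2] at hk1
  exact Sylow.smul_eq_iff_mem_normalizer.mp hk1

end Cfsg.Agent.Lib.TwoPrimes.Main
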