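import Mathlib
import Cfsg.Agent.Lib.TwoPrimes.Main
import Cfsg.Agent.Lib.Blk89.PrinBlock
import Cfsg.Agent.Lib.BlockCover.Basic

/-!
# Characters of degree prime to `p` having degree prime to `q`: the main theorem

If `G` is `p`-solvable and `q`-solvable, `p ≠ q`, and every irreducible character of degree prime to
`p` has degree prime to `q`, then `N_G(P) ≤ N_G(Q)` for suitable Sylow subgroups (`mainY`).
-/

set_option autoImplicit false
set_option linter.unusedSectionVars false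
set_option linter.style.haveILetI false

namespace Cfsg.Agent.Lib.TwoPrimes.Y

open Cfsg Cfsg.Agent.Lib.Char.Basic Cfsg.Agent.Lib.Char.Degree
open Cfsg.Agent.Lib.Core.PSolvable Cfsg.Agent.Lib.Core.Basic
open Cfsg.Agent.Lib.TwoPrimes.Basic Cfsg.Agent.Lib.TwoPrimes.Main
open Cfsg.Agent.S4864 (Nz)
open scoped Classical

universe u

theorem charDegree_comp {H X : Type*} [Group H] [Group X] (f : H →* X) (χ : X → ℂ) :
    charDegree (χ ∘ f) = charDegree χ := by
  simp [charDegree, map_one]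

/-- The hypothesis on degrees passes to quotients. -/
theorem hyp_quot {p q : ℕ} {G X : Type u} [Group G] [Group X] [Finite G] (f : G →* X)
    (hf : Function.Surjective f)
    (hH : ∀ χ : IrrCharacter G, ¬ p ∣ charDegree (χ : G → ℂ) → ¬ q ∣ charDegree (χ : G → ℂ)) :
    ∀ χ : IrrCharacter X, ¬ p ∣ charDegree (χ : X → ℂ) → ¬ q ∣ charDegree (χ : X → ℂ) := by
  intro χ h
  have h1 := hH ⟨(χ : X → ℂ) ∘ f, Cfsg.Agent.Lib.Char.Linear.isIrrCharacter_comp f hf χ.2⟩
  simp only [charDegree_comp] at h1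
  exact h1 h

/-- **Theorem Y**. -/
theorem mainY {p q : ℕ} [hp : Fact p.Prime] [hq : Fact q.Prime] (hpq : p ≠ q) :
    ∀ (n : ℕ) (G : Type u) [Group G] [Finite G], Nat.card G = n → IsPSolvable p G → IsPSolvable q G →
    (∀ χ : IrrCharacter G, ¬ p ∣ charDegree (χ : G → ℂ) → ¬ q ∣ charDegree (χ : G → ℂ)) →
    ∃ (P : Sylow p G) (Q : Sylow q G), Nz (P : Subgroup G) ≤ Nz (Q : Subgroup G) := by
  intro n
  induction n using Nat.strong_induction_on with
  | _ n ih =>
  intro G _ _ hcard hGp hGq hH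
  by_cases hs : Subsingleton G
  · refine ⟨default, default, fun x _ => ?_⟩
    rw [Subsingleton.elim x 1]
    exact one_mem _
  rw [not_subsingleton_iff_nontrivial] at hs
  obtain ⟨M, hMn, hMb, hMt⟩ := exists_normal_type hGp hGq
  haveI := hMn
  let π := QuotientGroup.mk' M
  have hπ : Function.Surjective π := QuotientGroup.mk'_surjective M
  have hlt : Nat.card (G ⧸ M) < n := by
    rw [← hcard, ← Subgroup.card_mul_index M]
    have h1 : 1 < Nat.card M := M.one_lt_card_iff_ne_bot.mpr hMb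
    have h2 : 0 < M.index := Nat.pos_of_ne_zero Subgroup.index_ne_zero_of_finite
    have h3 : Nat.card (G ⧸ M) = M.index := rfl
    rw [h3]
    nlinarith
  have hs1 := isPSolvable_of_surjective π hπ hGp
  have hs2 := isPSolvable_of_surjective π hπ hGq
  obtain ⟨Pb, Qb, hNb⟩ := ih _ hlt (G ⧸ M) rfl hs1 hs2 (hyp_quot π hπ hH)
  obtain ⟨P, rfl⟩ := Sylow.mapSurjective_surjective hπ p Pb
  obtain ⟨Q, rfl⟩ := Sylow.mapSurjective_surjective hπ q Qb
  have hNH : Nz (P : Subgroup G) ≤ Nz ((Q : Subgroup G) ⊔ M : Subgroup G) := by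
    intro x hx
    have h1 : (x : G ⧸ M) ∈ Nz (Q.mapSurjective hπ : Subgroup (G ⧸ M)) := by
      apply hNb
      rw [Sylow.coe_mapSurjective]
      exact Subgroup.le_normalizer_map π ⟨x, hx, rfl⟩
    rw [Sylow.coe_mapSurjective] at h1
    rw [Subgroup.mem_normalizer_iff]
    intro w
    rw [mem_sup_iff_map, mem_sup_iff_map]
    exact (Subgroup.mem_normalizer_iff.mp h1) (w : G ⧸ M)
  have hPH : (P : Subgroup G) ≤ Nz ((Q : Subgroup G) ⊔ M : Subgroup G) :=
    Subgroup.le_normalizer.trans hNH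
  have hstar0 : ∀ T : Subgroup G, (P : Subgroup G) ≤ T → ¬ q ∣ T.index →
      (Q : Subgroup G) ≤ T ⊔ M := by
    intro T hPT hTq
    have h1 := star hpq _ (G ⧸ M) rfl hs1 hs2 (P.mapSurjective hπ) (Q.mapSurjective hπ) hNb (T.map π)
      (by
        rw [Sylow.coe_mapSurjective]
        exact Subgroup.map_mono hPT)
      (fun hd => hTq (hd.trans (Subgroup.index_map_dvd T hπ)))
    rw [Sylow.coe_mapSurjective] at h1
    intro x hx
    rw [mem_sup_iff_map]
    exact h1 ⟨x, hx, rfl⟩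
  letI : Fintype G := Fintype.ofFinite G
  rcases hMt with ⟨hMp, hab⟩ | hMq | ⟨hMp, hMq⟩
  · have hMP : M ≤ (P : Subgroup G) := hMp.le_sylow_of_normal P
    refine ⟨P, Q, case_p hpq M hMp hab P Q hNH (fun T hPT hTq => ?_) hH⟩
    have h1 := hstar0 T hPT hTq
    rwa [sup_eq_left.mpr (hMP.trans hPT)] at h1
  · have hMQ : M ≤ (Q : Subgroup G) := hMq.le_sylow_of_normal Q
    refine ⟨P, Q, ?_⟩
    rwa [sup_eq_left.mpr hMQ] at hNH
  · have hcardQ : ¬ p ∣ Nat.card (Q : Subgroup G) := not_dvd_card_of_isPGroup hpq Q.isPGroup'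
    have hJ := not_dvd_card_sup hcardQ hMp
    obtain ⟨Q₀, hQ₀, hPQ₀⟩ := exists_fixed_sylow P.isPGroup' _ hPH hJ Q le_sup_left
    have hmap : Q.mapSurjective hπ = Q₀.mapSurjective hπ := by
      apply Sylow.ext
      apply (Q₀.mapSurjective hπ).is_maximal' (Q.mapSurjective hπ).isPGroup'
      rw [Sylow.coe_mapSurjective, Sylow.coe_mapSurjective]
      rintro _ ⟨x, hx, rfl⟩
      exact (mem_sup_iff_map M _ x).mp (hQ₀ hx)
    have hsupeq : (Q : Subgroup G) ⊔ M = (Q₀ : Subgroup G) ⊔ M := by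
      have h1 := congrArg (fun S : Sylow q (G ⧸ M) => (S : Subgroup (G ⧸ M))) hmap
      simp only [Sylow.coe_mapSurjective] at h1
      ext x
      rw [mem_sup_iff_map, mem_sup_iff_map]
      change (x : G ⧸ M) ∈ (Q : Subgroup G).map π ↔ (x : G ⧸ M) ∈ (Q₀ : Subgroup G).map π
      rw [h1]
    refine ⟨P, Q₀, case_c hpq M hMp hMq P Q₀ (hsupeq ▸ hNH) hPQ₀ (fun T hPT hMT hTq => ?_) hH⟩
    have h1 := hstar0 T hPT hTq
    rw [sup_eq_left.mpr hMT] at h1
    have h2 : (Q₀ : Subgroup G) ≤ (Q : Subgroup G) ⊔ M := le_sup_left.trans hsupeq.ge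
    exact h2.trans (sup_le h1 hMT)

/-- Subgroups normalizing each other with trivial intersection commute. -/
theorem commute_of_nz {G : Type*} [Group G] {A B : Subgroup G} (hA : A ≤ Nz B) (hB : B ≤ Nz A)
    (hAB : A ⊓ B = ⊥) : ∀ x ∈ A, ∀ y ∈ B, x * y = y * x := by
  intro x hx y hy
  have h1 : x * y * x⁻¹ * y⁻¹ ∈ A ⊓ B := by
    refine ⟨?_, ?_⟩
    · have e : x * y * x⁻¹ * y⁻¹ = x * (y * x⁻¹ * y⁻¹) := by group
      rw [e]
      exact A.mul_mem hx ((Subgroup.mem_normalizer_iff.mp (hB hy) _).mp (A.inv_mem hx))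
    · exact B.mul_mem ((Subgroup.mem_normalizer_iff.mp (hA hx) y).mp hy) (B.inv_mem hy)
  rw [hAB, Subgroup.mem_bot] at h1
  have h2 : x * y * x⁻¹ = y := by
    rw [mul_inv_eq_one] at h1
    exact h1
  rw [mul_inv_eq_iff_eq_mul] at h2
  exact h2

/-- If `O_{p'}(G) = 1`, a Sylow `q`-subgroup centralizing `O_p(G)` is trivial. -/
theorem not_dvd_card_of_central {p q : ℕ} [hp : Fact p.Prime] [hq : Fact q.Prime] (hpq : p ≠ q)
    {G : Type u} [Group G] [Finite G] (hGp : IsPSolvable p G) (h1 : pPrimeCore p G = ⊥)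
    (Q : Sylow q G) (hQ : (Q : Subgroup G) ≤ Subgroup.centralizer (pCore p G : Set G)) :
    ¬ q ∣ Nat.card G := by
  have h2 : (Q : Subgroup G) ≤ pCore p G := hQ.trans (centralizer_pCore_le_of_isPSolvable hGp h1)
  have hcop : (Nat.card (Q : Subgroup G)).Coprime p :=
    (Nat.Prime.coprime_iff_not_dvd hp.out).mpr (not_dvd_card_of_isPGroup hpq Q.isPGroup') |>.symm
  have h3 := inf_eq_bot_of_isPGroup_of_coprime (pCore_isPGroup (p := p) (G := G)) hcop
  have h4 : (Q : Subgroup G) = ⊥ := by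
    rw [eq_bot_iff, ← h3]
    exact le_inf h2 le_rfl
  have h5 := Q.not_dvd_index
  rwa [h4, Subgroup.index_bot] at h5

/-- `q ∤ |G : O_{p'}(G)|` when the hypothesis on degrees holds in `G / O_{p'}(G)`. -/
theorem not_dvd_index_of_hyp {p q : ℕ} [hp : Fact p.Prime] [hq : Fact q.Prime] (hpq : p ≠ q)
    {G : Type u} [Group G] [Finite G] (hGp : IsPSolvable p G) (hGq : IsPSolvable q G)
    (hH : ∀ χ : IrrCharacter (G ⧸ pPrimeCore p G),
      ¬ p ∣ charDegree (χ : (G ⧸ pPrimeCore p G) → ℂ) → ¬ q ∣ charDegree (χ : (G ⧸ pPrimeCore p G) → ℂ)) :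
    ¬ q ∣ (pPrimeCore p G).index := by
  let π := QuotientGroup.mk' (pPrimeCore p G)
  have hπ : Function.Surjective π := QuotientGroup.mk'_surjective _
  have hs1 := isPSolvable_of_surjective π hπ hGp
  have hs2 := isPSolvable_of_surjective π hπ hGq
  obtain ⟨P, Q, hN⟩ := mainY hpq _ (G ⧸ pPrimeCore p G) rfl hs1 hs2 hH
  have hV : pCore p (G ⧸ pPrimeCore p G) ≤ Nz (Q : Subgroup (G ⧸ pPrimeCore p G)) :=
    (pCore_le_sylow P).trans (Subgroup.le_normalizer.trans hN)
  have hcop : (Nat.card (Q : Subgroup (G ⧸ pPrimeCore p G))).Coprime p :=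
    (Nat.Prime.coprime_iff_not_dvd hp.out).mpr (not_dvd_card_of_isPGroup hpq Q.isPGroup') |>.symm
  have hb := inf_eq_bot_of_isPGroup_of_coprime
    (pCore_isPGroup (p := p) (G := G ⧸ pPrimeCore p G)) hcop
  have hc := commute_of_nz hV (fun y _ => Subgroup.mem_normalizer_iff.mpr fun z =>
    ⟨fun h => (inferInstance : (pCore p (G ⧸ pPrimeCore p G)).Normal).conj_mem z h y, fun h => by
      have := (inferInstance : (pCore p (G ⧸ pPrimeCore p G)).Normal).conj_mem _ h y⁻¹
      simpa [mul_assoc] using this⟩) hb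
  have hle : (Q : Subgroup (G ⧸ pPrimeCore p G)) ≤
      Subgroup.centralizer (pCore p (G ⧸ pPrimeCore p G) : Set (G ⧸ pPrimeCore p G)) := by
    intro y hy
    rw [Subgroup.mem_centralizer_iff]
    intro x hx
    exact hc x hx y hy
  exact not_dvd_card_of_central hpq hs1 pPrimeCore_quotient_eq_bot Q hle

/-- `q ∤ |G : O_{p'}(G)|` when a Sylow `p`-subgroup and a Sylow `q`-subgroup commute. -/
theorem not_dvd_index_of_commute {p q : ℕ} [hp : Fact p.Prime] [hq : Fact q.Prime] (hpq : p ≠ q)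
    {G : Type u} [Group G] [Finite G] (hGp : IsPSolvable p G) (P : Sylow p G) (Q : Sylow q G)
    (hc : ∀ x ∈ (P : Subgroup G), ∀ y ∈ (Q : Subgroup G), x * y = y * x) :
    ¬ q ∣ (pPrimeCore p G).index := by
  let π := QuotientGroup.mk' (pPrimeCore p G)
  have hπ : Function.Surjective π := QuotientGroup.mk'_surjective _
  have hs1 := isPSolvable_of_surjective π hπ hGp
  have hle : ((Q.mapSurjective hπ : Sylow q (G ⧸ pPrimeCore p G)) : Subgroup (G ⧸ pPrimeCore p G)) ≤
      Subgroup.centralizer (pCore p (G ⧸ pPrimeCore p G) : Set (G ⧸ pPrimeCore p G)) := by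
    rw [Sylow.coe_mapSurjective]
    rintro _ ⟨y, hy, rfl⟩
    rw [Subgroup.mem_centralizer_iff]
    intro x hx
    have h1 := pCore_le_sylow (P.mapSurjective hπ) hx
    rw [Sylow.coe_mapSurjective] at h1
    obtain ⟨a, ha, rfl⟩ := h1
    change π a * π y = π y * π a
    rw [← map_mul, ← map_mul, hc a ha y hy]
  exact not_dvd_card_of_central hpq hs1 pPrimeCore_quotient_eq_bot _ hle

/-- From characters in the principal block to characters of the quotient. -/
theorem hyp_of_block {p q : ℕ} [hp : Fact p.Prime] {G : Type u} [Group G] [Finite G]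
    {M : Ideal AlgInt} (hM : IsPModular p M) (hGp : IsPSolvable p G)
    (hH : ∀ χ : IrrCharacter G, χ ∈ principalBlock M G → ¬ p ∣ charDegree (χ : G → ℂ) →
      ¬ q ∣ charDegree (χ : G → ℂ)) :
    ∀ χ : IrrCharacter (G ⧸ pPrimeCore p G),
      ¬ p ∣ charDegree (χ : (G ⧸ pPrimeCore p G) → ℂ) → ¬ q ∣ charDegree (χ : (G ⧸ pPrimeCore p G) → ℂ) := by
  intro χ h
  let π := QuotientGroup.mk' (pPrimeCore p G)
  have hπ : Function.Surjective π := QuotientGroup.mk'_surjective _
  have h1 := hH ⟨(χ : (G ⧸ pPrimeCore p G) → ℂ) ∘ π, Cfsg.Agent.Lib.Char.Linear.isIrrCharacter_comp π hπ χ.2⟩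
    ((Cfsg.Agent.Lib.Blk89.PrinBlock.mem_principal_iff_of_isPSolvable hM hGp _).mpr (fun n hn => by
      have e : π n = 1 := (QuotientGroup.eq_one_iff n).mpr hn
      simp only [Function.comp_apply, map_one, e]))
  simp only [charDegree_comp] at h1
  exact h1 h

/-- A `q`-subgroup lies in every normal subgroup of index prime to `q`. -/
theorem le_normal_of_not_dvd_index {q : ℕ} [hq : Fact q.Prime] {G : Type u} [Group G] [Finite G]
    {R T : Subgroup G} (hR : IsPGroup q R) (hT : T.Normal) (hd : ¬ q ∣ T.index) : R ≤ T := by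
  obtain ⟨g, hg⟩ := exists_conj_le hR hd
  intro u hu
  have h1 := hT.conj_mem _ (hg u hu) g
  have e : g * (g⁻¹ * u * g) * g⁻¹ = u := by group
  rwa [e] at h1

/-- Commuting Sylow subgroups from the index conditions. -/
theorem exists_commuting {p q : ℕ} [hp : Fact p.Prime] [hq : Fact q.Prime] (hpq : p ≠ q)
    {G : Type u} [Group G] [Finite G] (hA : ¬ q ∣ (pPrimeCore p G).index)
    (hB : ¬ p ∣ (pPrimeCore q G).index) :
    ∃ (P : Sylow p G) (Q : Sylow q G), ∀ x ∈ (P : Subgroup G), ∀ y ∈ (Q : Subgroup G), x * y = y * x := by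
  let A := pPrimeCore p G
  let B := pPrimeCore q G
  haveI hAn : A.Normal := inferInstance
  haveI hBn : B.Normal := inferInstance
  let P₀ : Sylow p G := default
  let Q₀ : Sylow q G := default
  have hQ₀A : ∀ Q : Sylow q G, (Q : Subgroup G) ≤ A := fun Q =>
    le_normal_of_not_dvd_index Q.isPGroup' hAn hA
  have hPB : ∀ P : Sylow p G, (P : Subgroup G) ≤ B := fun P =>
    le_normal_of_not_dvd_index P.isPGroup' hBn hB
  let K : Subgroup G := A ⊓ B
  haveI hKn : K.Normal := inferInstance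
  have hKp : (Nat.card K).Coprime p :=
    (pPrimeCore_coprime (p := p) (G := G)).coprime_dvd_left (Subgroup.card_dvd_of_le inf_le_left)
  have hKq : (Nat.card K).Coprime q :=
    (pPrimeCore_coprime (p := q) (G := G)).coprime_dvd_left (Subgroup.card_dvd_of_le inf_le_right)
  have hKq' : ¬ q ∣ Nat.card K := (Nat.Prime.coprime_iff_not_dvd hq.out).mp hKq.symm
  let J : Subgroup G := (P₀ : Subgroup G) ⊔ K
  have hJ : ¬ q ∣ Nat.card J :=
    not_dvd_card_sup (not_dvd_card_of_isPGroup hpq.symm P₀.isPGroup') hKq'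
  have hconj : ∀ y ∈ (Q₀ : Subgroup G), ∀ z ∈ J, y * z * y⁻¹ ∈ J := by
    intro y hy z hz
    have hle : J ≤ J.comap (MulAut.conj y).toMonoidHom := by
      refine sup_le ?_ ?_
      · intro x hx
        change y * x * y⁻¹ ∈ J
        have e : y * x * y⁻¹ = x * (x⁻¹ * y * x * y⁻¹) := by group
        rw [e]
        refine J.mul_mem (Subgroup.mem_sup_left hx) (Subgroup.mem_sup_right ?_)
        refine ⟨?_, ?_⟩
        · exact A.mul_mem (hAn.conj_mem' y (hQ₀A _ hy) x) (A.inv_mem (hQ₀A _ hy))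
        · have e2 : x⁻¹ * y * x * y⁻¹ = x⁻¹ * (y * x * y⁻¹) := by group
          rw [e2]
          exact B.mul_mem (B.inv_mem (hPB _ hx)) (hBn.conj_mem x (hPB _ hx) y)
      · intro k hk
        exact Subgroup.mem_sup_right (hKn.conj_mem k hk y)
    exact hle hz
  have hQJ : (Q₀ : Subgroup G) ≤ Nz J := by
    intro y hy
    rw [Subgroup.mem_normalizer_iff]
    intro z
    refine ⟨hconj y hy z, fun hz => ?_⟩
    have h1 := hconj y⁻¹ (inv_mem hy) _ hz
    have e : y⁻¹ * (y * z * y⁻¹) * y⁻¹⁻¹ = z := by group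
    rwa [e] at h1
  obtain ⟨P₁, hP₁J, hP₁⟩ := exists_fixed_sylow Q₀.isPGroup' J hQJ hJ P₀ le_sup_left
  have hb := inf_eq_bot_of_isPGroup_of_coprime P₁.isPGroup' hKp
  refine ⟨P₁, Q₀, fun x hx y hy => ?_⟩
  have hc : x * y * x⁻¹ * y⁻¹ ∈ (P₁ : Subgroup G) ⊓ K := by
    refine ⟨?_, ?_, ?_⟩
    · have e : x * y * x⁻¹ * y⁻¹ = x * (y * x⁻¹ * y⁻¹) := by group
      rw [e]
      exact mul_mem hx ((Subgroup.mem_normalizer_iff.mp (hP₁ hy) _).mp (inv_mem hx))
    · exact A.mul_mem (hAn.conj_mem y (hQ₀A _ hy) x) (A.inv_mem (hQ₀A _ hy))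
    · have e : x * y * x⁻¹ * y⁻¹ = x * (y * x⁻¹ * y⁻¹) := by group
      rw [e]
      exact B.mul_mem (hPB _ hx) (hBn.conj_mem _ (B.inv_mem (hPB _ hx)) y)
  rw [hb, Subgroup.mem_bot, mul_inv_eq_one, mul_inv_eq_iff_eq_mul] at hc
  exact hc

/-- Degrees of characters in the principal block divide the index of the core. -/
theorem deg_dvd_index_of_mem_principal {p : ℕ} [hp : Fact p.Prime] {G : Type u} [Group G] [Finite G]
    {M : Ideal AlgInt} (hM : IsPModular p M) (hGp : IsPSolvable p G)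
    {χ : IrrCharacter G} (hχ : χ ∈ principalBlock M G) :
    charDegree (χ : G → ℂ) ∣ (pPrimeCore p G).index := by
  let π := QuotientGroup.mk' (pPrimeCore p G)
  have hπ : Function.Surjective π := QuotientGroup.mk'_surjective _
  have h1 := (Cfsg.Agent.Lib.Blk89.PrinBlock.mem_principal_iff_of_isPSolvable hM hGp χ).mp hχ
  obtain ⟨φ, hφ, hχφ⟩ := Cfsg.Agent.Lib.Char.Linear.isIrrCharacter_descend π hπ χ.2 (fun k hk => by
    rw [QuotientGroup.ker_mk'] at hk
    exact h1 k hk)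
  rw [hχφ, charDegree_comp]
  exact charDegree_dvd_card hφ

end Cfsg.Agent.Lib.TwoPrimes.Y
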